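/-
Kronecker products and the rank of `A ⊗ B - c`.
-/
import Cfsg.Agent.Lib.Elusive.Dims
import Cfsg.Agent.Lib.Elusive.Involution
import Cfsg.Agent.Lib.Elusive.FormWitness
import Cfsg.Prelude.Def_GeometricClasses

set_option autoImplicit false
set_option linter.unusedSectionVars false
set_option linter.style.haveILetI false

open scoped MatrixGroups Kronecker

namespace Cfsg.Agent.TensorDerange

open Module Matrix Polynomial Cfsg

variable {F : Type*} [Field F] {a b : ℕ}

/-- The pure tensor. -/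
def tens (v : Fin a → F) (w : Fin b → F) : Fin a × Fin b → F := fun p => v p.1 * w p.2

theorem kron_tens (A : Matrix (Fin a) (Fin a) F) (B : Matrix (Fin b) (Fin b) F) (v : Fin a → F)
    (w : Fin b → F) : (A ⊗ₖ B) *ᵥ tens v w = tens (A *ᵥ v) (B *ᵥ w) := by
  funext p
  simp only [Matrix.mulVec, dotProduct, tens, Matrix.kroneckerMap_apply, Fintype.sum_prod_type,
    Finset.sum_mul_sum]
  exact Finset.sum_congr rfl fun i _ => Finset.sum_congr rfl fun j _ => by ring

theorem one_kron_apply (M : Matrix (Fin b) (Fin b) F) (u : Fin a × Fin b → F) (i : Fin a) (j : Fin b) :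
    (((1 : Matrix (Fin a) (Fin a) F) ⊗ₖ M) *ᵥ u) (i, j) = (M *ᵥ fun l => u (i, l)) j := by
  simp [Matrix.mulVec, dotProduct, Matrix.one_apply, Fintype.sum_prod_type, ite_mul, Finset.sum_ite_irrel]

/-- A matrix which is not scalar moves some vector off its line. -/
theorem exists_indep {A : Matrix (Fin a) (Fin a) F} (hA : ∀ l : F, A ≠ l • 1) :
    ∃ v : Fin a → F, ∀ x y : F, x • (A *ᵥ v) = y • v → x = 0 := by
  classical
  by_contra hcon
  push Not at hcon
  have hline : ∀ v : Fin a → F, ∃ l : F, A *ᵥ v = l • v := fun v => by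
    obtain ⟨x, y, hxy, hx⟩ := hcon v
    exact ⟨x⁻¹ * y, by rw [mul_smul, ← hxy, inv_smul_smul₀ hx]⟩
  obtain ⟨l, hl⟩ : ∃ l : F, ∀ v, A *ᵥ v = l • v := by
    rcases isEmpty_or_nonempty (Fin a) with h | ⟨⟨i₀⟩⟩
    · exact ⟨0, fun v => Subsingleton.elim _ _⟩
    choose c hc using fun i => hline (Pi.single i (1 : F))
    refine ⟨c i₀, fun v => ?_⟩
    have hall : ∀ i, c i = c i₀ := by
      intro i
      by_cases hi : i = i₀
      · rw [hi]
      obtain ⟨d, hd⟩ := hline (Pi.single i 1 + Pi.single i₀ 1)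
      rw [Matrix.mulVec_add, hc, hc] at hd
      have e1 := congrFun hd i
      have e2 := congrFun hd i₀
      simp [hi, Ne.symm hi] at e1 e2
      rw [e1, e2]
    have : Matrix.toLin' A = c i₀ • LinearMap.id := (Pi.basisFun F (Fin a)).ext fun i => by
      rw [Pi.basisFun_apply, Matrix.toLin'_apply, hc, hall, LinearMap.smul_apply, LinearMap.id_apply]
    rw [← Matrix.toLin'_apply, this]
    rfl
  refine hA l ?_
  refine Matrix.toLin'.injective (LinearMap.ext fun v => ?_)
  rw [Matrix.toLin'_apply, hl, map_smul, Matrix.toLin'_one]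
  rfl

/-- `A ⊗ B - c` has rank at least `b` when `A` is not scalar. -/
theorem rank_ge {A : Matrix (Fin a) (Fin a) F} {B : Matrix (Fin b) (Fin b) F}
    (hA : ∀ l : F, A ≠ l • 1) (hB : IsUnit B) (c : F) :
    b ≤ finrank F (LinearMap.range (Matrix.toLin' (A ⊗ₖ B) - c • 1)) := by
  obtain ⟨v, hv⟩ := exists_indep hA
  let T : (Fin b → F) →ₗ[F] (Fin a × Fin b → F) :=
    { toFun := fun w => tens v w
      map_add' := fun w w' => funext fun p => mul_add _ _ _
      map_smul' := fun s w => funext fun p => mul_left_comm _ _ _ }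
  have hinj : Function.Injective ((Matrix.toLin' (A ⊗ₖ B) - c • 1).comp T) := by
    rw [injective_iff_map_eq_zero]
    intro w hw
    have hw' : ∀ i j, (A *ᵥ v) i * (B *ᵥ w) j = c * (v i * w j) := fun i j => by
      have h := congrFun hw (i, j)
      simp only [T, LinearMap.comp_apply, LinearMap.coe_mk, AddHom.coe_mk, LinearMap.sub_apply,
        Matrix.toLin'_apply, kron_tens, LinearMap.smul_apply, Module.End.one_apply, Pi.sub_apply,
        Pi.smul_apply, smul_eq_mul, Pi.zero_apply, sub_eq_zero] at h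
      exact h
    have hBw : B *ᵥ w = 0 := funext fun j => hv _ (c * w j) (funext fun i => by
      simp only [Pi.smul_apply, smul_eq_mul]
      linear_combination hw' i j)
    exact Matrix.mulVec_injective_iff_isUnit.2 hB (hBw.trans (Matrix.mulVec_zero B).symm)
  calc b = finrank F (Fin b → F) := (Module.finrank_fin_fun F).symm
    _ = finrank F (LinearMap.range ((Matrix.toLin' (A ⊗ₖ B) - c • 1).comp T)) :=
        (LinearMap.finrank_range_of_inj hinj).symm
    _ ≤ _ := Submodule.finrank_mono (LinearMap.range_comp_le_range _ _)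

/-- `1 ⊗ B - c` has `a` times the rank of `B - c`. -/
theorem rank_one_kron (B : Matrix (Fin b) (Fin b) F) (c : F) :
    a * finrank F (LinearMap.range (Matrix.toLin' B - c • 1)) ≤
      finrank F (LinearMap.range (Matrix.toLin' ((1 : Matrix (Fin a) (Fin a) F) ⊗ₖ B) - c • 1)) := by
  set R := LinearMap.range (Matrix.toLin' B - c • 1)
  let J : (Fin a → R) →ₗ[F] (Fin a × Fin b → F) :=
    { toFun := fun z p => (z p.1 : Fin b → F) p.2
      map_add' := fun z z' => rfl
      map_smul' := fun s z => rfl }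
  have hJ : Function.Injective J := fun z z' h => funext fun i => Subtype.ext (funext fun j => congrFun h (i, j))
  have hle : LinearMap.range J ≤
      LinearMap.range (Matrix.toLin' ((1 : Matrix (Fin a) (Fin a) F) ⊗ₖ B) - c • 1) := by
    rintro _ ⟨z, rfl⟩
    choose u hu using fun i => (z i).2
    refine ⟨fun p => u p.1 p.2, funext fun ⟨i, j⟩ => ?_⟩
    have h := congrFun (hu i) j
    simp only [LinearMap.sub_apply, Matrix.toLin'_apply, LinearMap.smul_apply, Module.End.one_apply,
      Pi.sub_apply, Pi.smul_apply] at h ⊢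
    rw [one_kron_apply]
    exact h
  have h := Submodule.finrank_mono hle
  rwa [LinearMap.finrank_range_of_inj hJ, Module.finrank_pi_fintype, Finset.sum_const, Finset.card_univ,
    Fintype.card_fin, smul_eq_mul] at h

/-- A scalar factor moves to the other side. -/
theorem scalar_kron (l : F) (B : Matrix (Fin b) (Fin b) F) :
    (l • (1 : Matrix (Fin a) (Fin a) F)) ⊗ₖ B = (1 : Matrix (Fin a) (Fin a) F) ⊗ₖ (l • B) := by
  rw [Matrix.smul_kronecker, Matrix.kronecker_smul]

/-- Kronecker powers. -/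
theorem kron_pow (A : Matrix (Fin a) (Fin a) F) (B : Matrix (Fin b) (Fin b) F) :
    ∀ k : ℕ, (A ⊗ₖ B) ^ k = (A ^ k) ⊗ₖ (B ^ k)
  | 0 => by simp
  | k + 1 => by rw [pow_succ, pow_succ, pow_succ, kron_pow A B k, Matrix.mul_kronecker_mul]

/-- If a Kronecker product is one, both factors are scalar. -/
theorem eq_scalar_of_kron_one (ha : 0 < a) (hb : 0 < b) {A : Matrix (Fin a) (Fin a) F}
    {B : Matrix (Fin b) (Fin b) F} (h : A ⊗ₖ B = 1) :
    ∃ s : F, A = s • 1 ∧ B = s⁻¹ • 1 := by
  have e : ∀ i i' j j', A i i' * B j j' = if i = i' ∧ j = j' then 1 else 0 := fun i i' j j' => by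
    have := congrFun (congrFun h (i, j)) (i', j')
    simpa [Matrix.one_apply] using this
  have h0 := e ⟨0, ha⟩ ⟨0, ha⟩ ⟨0, hb⟩ ⟨0, hb⟩
  simp only [and_self, if_true] at h0
  set i₀ : Fin a := ⟨0, ha⟩
  set j₀ : Fin b := ⟨0, hb⟩
  have hA0 : A i₀ i₀ ≠ 0 := left_ne_zero_of_mul_eq_one h0
  have hB0 : B j₀ j₀ ≠ 0 := right_ne_zero_of_mul_eq_one h0
  refine ⟨A i₀ i₀, ?_, ?_⟩
  · ext i i'
    have h1 := e i i' j₀ j₀
    by_cases hi : i = i'
    · subst hi
      simp at h1 ⊢
      exact mul_right_cancel₀ hB0 (h1.trans h0.symm)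
    · simp [hi] at h1 ⊢
      exact h1.resolve_right hB0
  · ext j j'
    have h1 := e i₀ i₀ j j'
    by_cases hj : j = j'
    · subst hj
      simp at h1 ⊢
      exact eq_inv_of_mul_eq_one_right h1
    · simp [hj] at h1 ⊢
      exact h1.resolve_left hA0

/-- `x` is a Kronecker product in some coordinates. -/
def Decomposed {n : ℕ} (x : Matrix.SpecialLinearGroup (Fin n) F) (A : GL (Fin a) F) (B : GL (Fin b) F) : Prop :=
  ∃ E : (Fin a × Fin b → F) ≃ₗ[F] (Fin n → F),
    ∀ v, Elusive.endOf x (E v) = E (((A : Matrix (Fin a) (Fin a) F) ⊗ₖ (B : Matrix (Fin b) (Fin b) F)) *ᵥ v)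

theorem rank_transfer {n : ℕ} {x : Matrix.SpecialLinearGroup (Fin n) F} {A : GL (Fin a) F}
    {B : GL (Fin b) F} (h : Decomposed x A B) (c : F) :
    finrank F (LinearMap.range (Elusive.endOf x - c • 1)) =
      finrank F (LinearMap.range (Matrix.toLin' ((A : Matrix (Fin a) (Fin a) F) ⊗ₖ (B : Matrix (Fin b) (Fin b) F)) - c • 1)) := by
  obtain ⟨E, hE⟩ := h
  have : LinearMap.range (Elusive.endOf x - c • 1) =
      (LinearMap.range (Matrix.toLin' ((A : Matrix (Fin a) (Fin a) F) ⊗ₖ (B : Matrix (Fin b) (Fin b) F)) - c • 1)).map E.toLinearMap := by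
    ext u
    simp only [Submodule.mem_map, LinearMap.mem_range]
    constructor
    · rintro ⟨w, rfl⟩
      obtain ⟨v, rfl⟩ := E.surjective w
      refine ⟨_, ⟨v, rfl⟩, ?_⟩
      simp only [LinearMap.sub_apply, Matrix.toLin'_apply, LinearMap.smul_apply, Module.End.one_apply,
        LinearEquiv.coe_coe, map_sub, map_smul]
      rw [← hE]
      rfl
    · rintro ⟨_, ⟨v, rfl⟩, rfl⟩
      refine ⟨E v, ?_⟩
      simp only [LinearMap.sub_apply, Matrix.toLin'_apply, LinearMap.smul_apply, Module.End.one_apply,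
        LinearEquiv.coe_coe, map_sub, map_smul]
      rw [← hE]
      rfl
  rw [this, LinearEquiv.finrank_map_eq]

end Cfsg.Agent.TensorDerange
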