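/-
Elements fixing no tensor decomposition, and the involutions which always fix one.
-/
import Cfsg.Agent.Lib.TensorDerange.Core
import Cfsg.Agent.Lib.Elusive.Decompositions
import Cfsg.Agent.Lib.Elusive.InvolutionPairs

set_option autoImplicit false
set_option linter.unusedSectionVars false
set_option linter.style.haveILetI false

open scoped MatrixGroups Kronecker

namespace Cfsg.Agent.TensorDerange

open Module Matrix Polynomial Cfsg

variable {F : Type*} [Field F] {n a b : ℕ}

/-- The rank of `f - c`. -/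
noncomputable def rk (x : Matrix.SpecialLinearGroup (Fin n) F) (c : F) : ℕ :=
  finrank F (LinearMap.range (Elusive.endOf x - c • 1))

theorem rank_one_kron_eq (B : Matrix (Fin b) (Fin b) F) (c : F) :
    finrank F (LinearMap.range (Matrix.toLin' ((1 : Matrix (Fin a) (Fin a) F) ⊗ₖ B) - c • 1)) =
      a * finrank F (LinearMap.range (Matrix.toLin' B - c • 1)) := by
  refine le_antisymm ?_ (rank_one_kron B c)
  set R := LinearMap.range (Matrix.toLin' B - c • 1)
  let J : (Fin a → R) →ₗ[F] (Fin a × Fin b → F) :=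
    { toFun := fun z p => (z p.1 : Fin b → F) p.2
      map_add' := fun z z' => rfl
      map_smul' := fun s z => rfl }
  have hle : LinearMap.range (Matrix.toLin' ((1 : Matrix (Fin a) (Fin a) F) ⊗ₖ B) - c • 1) ≤
      LinearMap.range J := by
    rintro _ ⟨u, rfl⟩
    refine ⟨fun i => ⟨_, LinearMap.mem_range_self _ (fun l => u (i, l))⟩, funext fun ⟨i, j⟩ => ?_⟩
    simp only [J, LinearMap.coe_mk, AddHom.coe_mk, LinearMap.sub_apply, Matrix.toLin'_apply,
      LinearMap.smul_apply, Module.End.one_apply, Pi.sub_apply, Pi.smul_apply, one_kron_apply]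
  refine (Submodule.finrank_mono hle).trans ((LinearMap.finrank_range_le J).trans (le_of_eq ?_))
  rw [Module.finrank_pi_fintype, Finset.sum_const, Finset.card_univ, Fintype.card_fin, smul_eq_mul]

/-- The two kinds of decomposition. -/
theorem cases_of_decomposed {x : Matrix.SpecialLinearGroup (Fin n) F} {A : GL (Fin a) F} {B : GL (Fin b) F}
    (h : Decomposed x A B) :
    ((∀ l : F, (A : Matrix (Fin a) (Fin a) F) ≠ l • 1) ∧ ∀ c : F, b ≤ rk x c) ∨
      (∃ B' : Matrix (Fin b) (Fin b) F, (∀ c : F, rk x c = a * finrank F (LinearMap.range (Matrix.toLin' B' - c • 1))) ∧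
        (A : Matrix (Fin a) (Fin a) F) ⊗ₖ (B : Matrix (Fin b) (Fin b) F) = (1 : Matrix (Fin a) (Fin a) F) ⊗ₖ B') := by
  by_cases hA : ∀ l : F, (A : Matrix (Fin a) (Fin a) F) ≠ l • 1
  · exact Or.inl ⟨hA, fun c => (rank_ge hA B.isUnit c).trans (rank_transfer h c).ge⟩
  · push Not at hA
    obtain ⟨l, hl⟩ := hA
    refine Or.inr ⟨l • (B : Matrix (Fin b) (Fin b) F), fun c => ?_, by rw [hl, scalar_kron]⟩
    rw [rk, rank_transfer h c, hl, scalar_kron, rank_one_kron_eq]

theorem not_decomposed {x : Matrix.SpecialLinearGroup (Fin n) F} (h1 : ∃ c, rk x c < b)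
    (h2 : ∃ c, ¬ a ∣ rk x c) (A : GL (Fin a) F) (B : GL (Fin b) F) : ¬ Decomposed x A B := by
  intro h
  rcases cases_of_decomposed h with ⟨-, hb⟩ | ⟨B', hB', -⟩
  · obtain ⟨c, hc⟩ := h1
    have := hb c
    omega
  · obtain ⟨c, hc⟩ := h2
    exact hc ⟨_, hB' c⟩

theorem rk_pos {x : Matrix.SpecialLinearGroup (Fin n) F} {c : F}
    (hx : (x : Matrix (Fin n) (Fin n) F) ≠ c • 1) : 0 < rk x c := by
  refine Nat.pos_of_ne_zero fun h => hx (Matrix.toLin'.injective ?_)
  rw [rk, Submodule.finrank_eq_zero, LinearMap.range_eq_bot, sub_eq_zero] at h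
  rw [map_smul, Matrix.toLin'_one]
  exact h

/-- Rank one deviation from a scalar. -/
theorem rk_le_one {x : Matrix.SpecialLinearGroup (Fin n) F} {w t : F} {i j : Fin n}
    (hx : x.1 = w • (1 + Matrix.single i j t)) : rk x w ≤ 1 := by
  have hle : LinearMap.range (Elusive.endOf x - w • 1) ≤ Submodule.span F {Pi.single i (1 : F)} := by
    rintro _ ⟨v, rfl⟩
    refine Submodule.mem_span_singleton.2 ⟨w * (t * v j), funext fun l => ?_⟩
    simp only [LinearMap.sub_apply, Matrix.toLin'_apply, LinearMap.smul_apply, Module.End.one_apply, hx,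
      Matrix.smul_mulVec, Matrix.add_mulVec, Matrix.one_mulVec, Matrix.single_mulVec, Pi.sub_apply,
      Pi.smul_apply, Pi.add_apply, smul_eq_mul, Function.update_apply, Pi.zero_apply, Pi.single_apply]
    split_ifs <;> ring
  exact (Submodule.finrank_mono hle).trans (finrank_span_singleton (by simp)).le

theorem not_decomposed_rank_one {x : Matrix.SpecialLinearGroup (Fin n) F} {w t : F} {i j : Fin n}
    (hx : x.1 = w • (1 + Matrix.single i j t)) (hns : (x : Matrix (Fin n) (Fin n) F) ≠ w • 1)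
    (ha : 2 ≤ a) (hab : a < b) (A : GL (Fin a) F) (B : GL (Fin b) F) : ¬ Decomposed x A B := by
  have h1 : rk x w = 1 := le_antisymm (rk_le_one hx) (rk_pos hns)
  refine not_decomposed ⟨w, by omega⟩ ⟨w, ?_⟩ A B
  rw [h1, Nat.dvd_one]
  omega

theorem rk_diag {x : Matrix.SpecialLinearGroup (Fin n) F} {d : Fin n → F} [DecidableEq F]
    (hx : x.1 = Matrix.diagonal d) (c : F) : rk x c = (Finset.univ.filter fun l => d l ≠ c).card := by
  have e : Elusive.endOf x - c • 1 = (Matrix.diagonal fun l => d l - c).mulVecLin := by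
    refine LinearMap.ext fun v => funext fun l => ?_
    simp [hx, Matrix.mulVec_diagonal, sub_mul]
  rw [rk, e, ← Matrix.rank, Matrix.rank_diagonal, Fintype.card_subtype]
  congr 1
  refine Finset.filter_congr fun l _ => ?_
  simp [sub_eq_zero]

variable [Fintype F] {r : ℕ} [Fact r.Prime]

/-- Diagonal witness. -/
theorem exists_diag (hn : 3 ≤ n) (hr1 : r ∣ Fintype.card F - 1) (ha : 2 ≤ a) (hab : a < b)
    (hnab : n = a * b) (hcase : r ≠ 2 ∨ 3 ≤ a) :
    ∃ x : Matrix.SpecialLinearGroup (Fin n) F,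
      ((x ^ r : Matrix.SpecialLinearGroup (Fin n) F) : Matrix (Fin n) (Fin n) F) = (1 : F) • 1 ∧
      (∀ z : F, (x : Matrix (Fin n) (Fin n) F) ≠ z • 1) ∧
      ∀ (A : GL (Fin a) F) (B : GL (Fin b) F), ¬ Decomposed x A B := by
  classical
  obtain ⟨u, hu⟩ : ∃ u : Fˣ, orderOf u = r := by
    refine exists_prime_orderOf_dvd_card' r ?_
    rwa [Nat.card_units, Nat.card_eq_fintype_card]
  have hu1 : (u : F) ≠ 1 := fun h => (Fact.out : r.Prime).one_lt.ne
    (by rw [← hu, Units.val_eq_one.1 h, orderOf_one])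
  let i₀ : Fin n := ⟨0, by omega⟩
  let i₁ : Fin n := ⟨1, by omega⟩
  let i₂ : Fin n := ⟨2, by omega⟩
  have h01 : i₀ ≠ i₁ := by simp [i₀, i₁]
  let d : Fin n → F := fun l => if l = i₀ then (u : F) else if l = i₁ then ((u⁻¹ : Fˣ) : F) else 1
  have hd2 : d i₂ = 1 := by simp [d, i₀, i₁, i₂]
  have hd0 : d i₀ = u := by simp [d]
  have hdet : (Matrix.diagonal d).det = 1 := by
    rw [Matrix.det_diagonal, Finset.prod_eq_mul i₀ i₁ h01
      (fun j _ hj => by simp [d, hj.1, hj.2]) (by simp) (by simp)]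
    simp [d, h01.symm]
  have hur : (u : F) ^ r = 1 := by rw [← Units.val_pow_eq_pow_val, ← hu, pow_orderOf_eq_one, Units.val_one]
  let x : Matrix.SpecialLinearGroup (Fin n) F := ⟨Matrix.diagonal d, hdet⟩
  have hx : x.1 = Matrix.diagonal d := rfl
  have h2 : rk x 1 = 2 := by
    rw [rk_diag hx]
    have : (Finset.univ.filter fun l => d l ≠ 1) = {i₀, i₁} := by
      ext l
      by_cases h0 : l = i₀
      · simp [d, h0, hu1]
      · by_cases h1 : l = i₁
        · simp [d, h1, h01.symm, hu1]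
        · simp [d, h0, h1]
    rw [this, Finset.card_pair h01]
  refine ⟨x, ?_, fun z hz => ?_, fun A B => not_decomposed ⟨1, by omega⟩ ?_ A B⟩
  · rw [Matrix.SpecialLinearGroup.coe_pow]
    show Matrix.diagonal d ^ r = _
    rw [Matrix.diagonal_pow, one_smul, ← Matrix.diagonal_one]
    congr 1
    funext j
    simp only [d, Pi.pow_apply]
    split_ifs <;> simp [hur]
  · have e0 := congrFun (congrFun hz i₀) i₀
    have e2 := congrFun (congrFun hz i₂) i₂
    simp [x, hd2, hd0] at e0 e2
    exact hu1 (e0.trans e2.symm)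
  · by_cases ha3 : 3 ≤ a
    · exact ⟨1, by rw [h2]; exact fun h => absurd (Nat.le_of_dvd two_pos h) (by omega)⟩
    have hr2 : r ≠ 2 := hcase.resolve_right ha3
    have huu : ((u⁻¹ : Fˣ) : F) ≠ u := fun h => by
      have h' : u ^ 2 = 1 := by rw [pow_two]; nth_rw 1 [← Units.ext h]; exact inv_mul_cancel u
      rw [← orderOf_dvd_iff_pow_eq_one, hu, Nat.dvd_prime Nat.prime_two] at h'
      rcases h' with h' | h'
      exacts [(Fact.out : r.Prime).ne_one h', hr2 h']
    refine ⟨u, ?_⟩
    have : (Finset.univ.filter fun l => d l ≠ u) = Finset.univ.erase i₀ := by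
      ext l
      by_cases h0 : l = i₀
      · simp [d, h0]
      · by_cases h1 : l = i₁
        · have huu' : ((u : F))⁻¹ ≠ u := by simpa using huu
          simp [d, h1, h01.symm, huu']
        · simp [d, h0, h1, Ne.symm hu1]
    obtain rfl : a = 2 := by omega
    rw [rk_diag hx, this, Finset.card_erase_of_mem (Finset.mem_univ _), Finset.card_univ, Fintype.card_fin]
    omega

/-- One irreducible block. -/
theorem exists_block_witness (p : ℕ) [Fact p.Prime] [CharP F p] (hrp : r ≠ p)
    (hi : 2 ≤ orderOf (Fintype.card F : ZMod r)) (hin : orderOf (Fintype.card F : ZMod r) ≤ n)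
    (ha : 2 ≤ a) (hab : a < b) :
    ∃ x : Matrix.SpecialLinearGroup (Fin n) F,
      ((x ^ r : Matrix.SpecialLinearGroup (Fin n) F) : Matrix (Fin n) (Fin n) F) = (1 : F) • 1 ∧
      (∀ z : F, (x : Matrix (Fin n) (Fin n) F) ≠ z • 1) ∧
      ∀ (A : GL (Fin a) F) (B : GL (Fin b) F), ¬ Decomposed x A B := by
  obtain ⟨x, hxr, hx1, hrange⟩ := Elusive.Decomp.exists_single_block (F := F) (n := n) p hrp hi hin
  set i := orderOf (Fintype.card F : ZMod r) with hidef
  have hr0 : (r : F) ≠ 0 := Elusive.ne_zero_of_order (r := r) (by omega)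
  have hnd := Elusive.not_dvd_card_sub_one (r := r) (F := F) hi
  have hroot : ∀ z : F, z ^ r = 1 → z = 1 := by
    intro z hz
    by_contra hne
    have hz0 : z ≠ 0 := fun h => by rw [h, zero_pow (Fact.out : r.Prime).ne_zero] at hz; exact zero_ne_one hz
    have h2 := FiniteField.pow_card_sub_one_eq_one z hz0
    rw [← orderOf_dvd_iff_pow_eq_one, orderOf_eq_prime hz hne] at h2
    exact hnd h2
  have hns : ∀ z : F, (x : Matrix (Fin n) (Fin n) F) ≠ z • 1 := by
    intro z hz
    have he := (Elusive.endOf_scalar_iff x z).2 hz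
    have h1 : z ^ r = 1 := by
      have h' := hxr
      rw [he, _root_.smul_pow, one_pow] at h'
      have hnpos : 0 < n := by omega
      have := congrFun (LinearMap.congr_fun h' (Pi.single ⟨0, hnpos⟩ 1)) ⟨0, hnpos⟩
      simpa using this
    exact hx1 (by rw [he, hroot z h1, one_smul])
  have hrk : rk x 1 ≤ i := by rw [rk, one_smul]; exact hrange
  have hpos : 0 < rk x 1 := rk_pos (hns 1)
  refine ⟨x, (Elusive.endOf_pow_iff x r 1).1 (by rw [hxr, one_smul]), hns, fun A B h => ?_⟩
  have hpow : ((A : Matrix (Fin a) (Fin a) F) ⊗ₖ (B : Matrix (Fin b) (Fin b) F)) ^ r = 1 := by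
    obtain ⟨E, hE⟩ := h
    have hk : ∀ k v, (Elusive.endOf x ^ k) (E v) =
        E ((((A : Matrix (Fin a) (Fin a) F) ⊗ₖ (B : Matrix (Fin b) (Fin b) F)) ^ k) *ᵥ v) := by
      intro k
      induction k with
      | zero => intro v; simp
      | succ k ih =>
        intro v
        rw [pow_succ, pow_succ, Module.End.mul_apply, hE, ih, Matrix.mulVec_mulVec]
    refine Matrix.toLin'.injective (LinearMap.ext fun v => E.injective ?_)
    rw [Matrix.toLin'_apply, ← hk, hxr, Matrix.toLin'_one]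
    rfl
  rcases cases_of_decomposed h with ⟨hA, hb⟩ | ⟨B', hB', he⟩
  · have hib : b ≤ i := (hb 1).trans hrk
    rw [kron_pow] at hpow
    obtain ⟨s, hs, -⟩ := eq_scalar_of_kron_one (by omega) (by omega) hpow
    have hs0 : s ≠ 0 := fun h0 => by
      haveI : Nonempty (Fin a) := ⟨⟨0, by omega⟩⟩
      have hu := (A.isUnit.pow r)
      rw [hs, h0, zero_smul] at hu
      exact not_isUnit_zero hu
    have hcop : (Nat.card Fˣ).Coprime r := by
      rw [Nat.card_units, Nat.card_eq_fintype_card, Nat.coprime_comm]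
      exact (Fact.out : r.Prime).coprime_iff_not_dvd.2 hnd
    obtain ⟨u, hu⟩ := (powCoprime hcop).surjective (Units.mk0 s hs0)
    rw [powCoprime_apply] at hu
    have hu' : (u : F) ^ r = s := by rw [← Units.val_pow_eq_pow_val, hu]; rfl
    let A' : GL (Fin a) F := A * (Units.map (algebraMap F (Matrix (Fin a) (Fin a) F)).toMonoidHom u)⁻¹
    have hval : (A' : Matrix (Fin a) (Fin a) F) = (u : F)⁻¹ • (A : Matrix (Fin a) (Fin a) F) := by
      simp [A', ← map_inv, Algebra.algebraMap_eq_smul_one]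
    have hA'r : A' ^ r = 1 := Units.ext (by
      rw [Units.val_pow_eq_pow_val, hval, _root_.smul_pow, hs, smul_smul, inv_pow, hu',
        inv_mul_cancel₀ hs0, one_smul, Units.val_one])
    have hA'1 : A' ≠ 1 := fun h1 => hA u (by
      have := congrArg Units.val h1
      rw [hval, Units.val_one] at this
      rw [← this, smul_inv_smul₀ u.ne_zero])
    have hdvd : r ∣ Nat.card (GL (Fin a) F) := orderOf_eq_prime hA'r hA'1 ▸ orderOf_dvd_natCard A'
    have := (Elusive.order_facts_of_dvd_card (n := a) hrp hdvd).2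
    omega
  · have hBr : (Matrix.toLin' B') ^ r = 1 := by
      rw [he, kron_pow, one_pow] at hpow
      refine LinearMap.ext fun v => funext fun j => ?_
      have h' := congrFun (congrArg (fun M => M *ᵥ fun q : Fin a × Fin b => v q.2) hpow) (⟨0, by omega⟩, j)
      rw [one_kron_apply] at h'
      simp only [Matrix.one_mulVec] at h'
      rw [← Matrix.toLin'_pow, Matrix.toLin'_apply]
      exact h'
    have hann : ∀ v ∈ LinearMap.range (Matrix.toLin' B' - (1 : F) • 1),
        aeval (Matrix.toLin' B') (∑ j ∈ Finset.range r, X ^ j : F[X]) v = 0 := by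
      rintro _ ⟨w, rfl⟩
      rw [← Module.End.mul_apply, one_smul,
        show (Matrix.toLin' B' - 1 : End F (Fin b → F)) = aeval (Matrix.toLin' B') (X - 1 : F[X]) by simp,
        ← map_mul, geom_sum_mul]
      simp [hBr]
    have hinv : Elusive.Inv (Matrix.toLin' B') (LinearMap.range (Matrix.toLin' B' - (1 : F) • 1)) := by
      rintro _ ⟨w, rfl⟩
      exact ⟨Matrix.toLin' B' w, by simp [Matrix.mulVec_sub, Matrix.mulVec_mulVec]⟩
    have hd := Elusive.dvd_finrank (Elusive.factorDeg_geom hr0) hinv hann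
    rw [hB' 1] at hrk hpos
    have h1 := Nat.le_of_dvd (Nat.pos_of_ne_zero fun h0 => by rw [h0, mul_zero] at hpos; omega) hd
    have h2 := Nat.mul_le_mul ha h1
    omega

omit r in
/-- Membership in the stabiliser gives a decomposition. -/
theorem decomposed_of_mem (e : Fin n ≃ Fin a × Fin b) (P : GL (Fin n) F) (x Q : Matrix.SpecialLinearGroup (Fin n) F)
    (h : Q⁻¹ * x * Q ∈ (Geo.tensorProductSubgroup a b e P).comap Matrix.SpecialLinearGroup.toGL) :
    ∃ (A : GL (Fin a) F) (B : GL (Fin b) F), Decomposed x A B := by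
  obtain ⟨_, ⟨k, ⟨A, B, hk⟩, rfl⟩, hy⟩ := h
  let R : GL (Fin n) F := Matrix.SpecialLinearGroup.toGL Q * P
  have heq : Matrix.SpecialLinearGroup.toGL x * R = R * Geo.glReindex e.symm k := by
    rw [MulEquiv.coe_toMonoidHom, MulEquiv.coe_toMonoidHom, MulAut.conj_apply, map_mul, map_mul, map_inv] at hy
    have h2 : Geo.glReindex e.symm k =
        P⁻¹ * ((Matrix.SpecialLinearGroup.toGL Q)⁻¹ * Matrix.SpecialLinearGroup.toGL x *
          Matrix.SpecialLinearGroup.toGL Q) * P := by rw [← hy]; group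
    rw [h2]
    simp only [R]
    group
  let T : (Fin n → F) ≃ₗ[F] (Fin n → F) :=
    { Matrix.toLin' R.val with
      invFun := fun v => R⁻¹.val *ᵥ v
      left_inv := fun v => by simp [Matrix.mulVec_mulVec, ← Units.val_mul]
      right_inv := fun v => by simp [Matrix.mulVec_mulVec, ← Units.val_mul] }
  refine ⟨A, B, (LinearEquiv.funCongrLeft F F e).trans T, fun v => ?_⟩
  show Matrix.toLin' x.1 (Matrix.toLin' R.val (v ∘ e)) = Matrix.toLin' R.val
    ((((A : Matrix (Fin a) (Fin a) F) ⊗ₖ (B : Matrix (Fin b) (Fin b) F)) *ᵥ v) ∘ e)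
  simp only [Matrix.toLin'_apply]
  rw [Matrix.mulVec_mulVec]
  rw [show x.1 * R.val = R.val * (Geo.glReindex e.symm k).val from congrArg Units.val heq,
    ← Matrix.mulVec_mulVec]
  congr 1
  show ((k : GL (Fin a × Fin b) F).val.submatrix e e) *ᵥ (v ∘ e) = _
  rw [Matrix.submatrix_mulVec_equiv, hk]
  simp [Function.comp_assoc]

omit r in
/-- A basis in which `x` is a Kronecker product gives a fixed point. -/
theorem exists_conj_of_basis (e : Fin n ≃ Fin a × Fin b) (P : GL (Fin n) F)
    (x : Matrix.SpecialLinearGroup (Fin n) F) (hx : Elusive.DetSurj (Elusive.endOf x))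
    (bs : Basis (Fin a × Fin b) F (Fin n → F)) (A : GL (Fin a) F) (B : GL (Fin b) F)
    (hM : LinearMap.toMatrix bs bs (Elusive.endOf x) =
      (A : Matrix (Fin a) (Fin a) F) ⊗ₖ (B : Matrix (Fin b) (Fin b) F)) :
    ∃ Q : Matrix.SpecialLinearGroup (Fin n) F,
      Q⁻¹ * x * Q ∈ (Geo.tensorProductSubgroup a b e P).comap Matrix.SpecialLinearGroup.toGL := by
  set b' := bs.reindex e.symm with hb'
  set s := Pi.basisFun F (Fin n)
  let R : GL (Fin n) F := ⟨s.toMatrix b', b'.toMatrix s, Basis.toMatrix_mul_toMatrix_flip _ _,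
    Basis.toMatrix_mul_toMatrix_flip _ _⟩
  let k : GL (Fin a × Fin b) F :=
    ⟨(A : Matrix (Fin a) (Fin a) F) ⊗ₖ (B : Matrix (Fin b) (Fin b) F),
      ((A⁻¹ : GL (Fin a) F) : Matrix (Fin a) (Fin a) F) ⊗ₖ ((B⁻¹ : GL (Fin b) F) : Matrix (Fin b) (Fin b) F),
      by rw [← Matrix.mul_kronecker_mul, ← Units.val_mul, ← Units.val_mul]; simp,
      by rw [← Matrix.mul_kronecker_mul, ← Units.val_mul, ← Units.val_mul]; simp⟩
  have hR : R⁻¹ * Matrix.SpecialLinearGroup.toGL x * R = Geo.glReindex e.symm k := by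
    refine Units.ext ?_
    show b'.toMatrix s * x.1 * s.toMatrix b' = _
    rw [show x.1 = LinearMap.toMatrix s s (Elusive.endOf x) from by
      rw [LinearMap.toMatrix_eq_toMatrix']; exact (LinearMap.toMatrix'_toLin' _).symm,
      basis_toMatrix_mul_linearMap_toMatrix_mul_basis_toMatrix]
    show _ = k.val.submatrix e e
    ext i j
    show _ = ((A : Matrix (Fin a) (Fin a) F) ⊗ₖ (B : Matrix (Fin b) (Fin b) F)) (e i) (e j)
    rw [← hM]
    simp [hb', LinearMap.toMatrix_apply]
  refine Elusive.exists_sl_conj _ x hx (R * P⁻¹) ⟨_, ⟨k, ⟨A, B, rfl⟩, rfl⟩, ?_⟩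
  rw [MulEquiv.coe_toMonoidHom, MulEquiv.coe_toMonoidHom, MulAut.conj_apply, ← hR]
  group

omit r in
/-- Involutions of `PSL_n(q)` fix a decomposition `2 × b` when `(q - 1)_2 ≤ n_2`. -/
theorem exists_basis_involution {b : ℕ} (hn : n = 2 * b) (hb : 0 < b) (h2 : (2 : F) ≠ 0)
    (hv : padicValNat 2 (Fintype.card F - 1) ≤ padicValNat 2 n)
    (x : Matrix.SpecialLinearGroup (Fin n) F) {z : F}
    (h : ((x ^ 2 : Matrix.SpecialLinearGroup (Fin n) F) : Matrix (Fin n) (Fin n) F) = z • 1) :
    ∃ (bs : Basis (Fin 2 × Fin b) F (Fin n → F)) (A : GL (Fin 2) F) (B : GL (Fin b) F),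
      LinearMap.toMatrix bs bs (Elusive.endOf x) =
        (A : Matrix (Fin 2) (Fin 2) F) ⊗ₖ (B : Matrix (Fin b) (Fin b) F) := by
  classical
  have hf := Elusive.endOf_mul_self x h
  have hz0 := Elusive.ne_zero_of_sq (by omega) x h
  by_cases hsq : ∃ w : F, w * w = z
  · obtain ⟨w, rfl⟩ := hsq
    have hw0 := left_ne_zero_of_mul hz0
    obtain ⟨m, l, bs, e0, e1⟩ := Elusive.exists_eigen_basis h2 hw0 hf
    have hml : m + l = n := by
      have := finrank_eq_card_basis bs
      simpa [Module.finrank_fin_fun] using this.symm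
    have hd : (-w) ^ m * w ^ l = 1 := by
      rw [← Elusive.det_eigen bs e0 e1, Elusive.det_endOf]
    have hme : Even m := by
      by_contra hodd
      rw [Nat.not_even_iff_odd] at hodd
      rw [hodd.neg_pow, neg_mul, ← pow_add, hml] at hd
      have := Elusive.lt_of_pow_eq_neg_one (n := n) (by omega) h2 (w := w) (neg_eq_iff_eq_neg.1 hd)
      omega
    obtain ⟨m', rfl⟩ := hme
    obtain ⟨l', rfl⟩ : Even l := by
      rw [hn] at hml
      exact ⟨b - m', by omega⟩
    let τ : Fin b ≃ Fin m' ⊕ Fin l' := (finCongr (by omega)).trans finSumFinEquiv.symm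
    let σ : Fin 2 × Fin b ≃ Fin (m' + m') ⊕ Fin (l' + l') :=
      ((Equiv.prodCongr (Equiv.refl _) τ).trans (Equiv.prodSumDistrib _ _ _)).trans
        (Equiv.sumCongr (finProdFinEquiv.trans (finCongr (two_mul m')))
          (finProdFinEquiv.trans (finCongr (two_mul l'))))
    let co : Fin b → F := fun i => Sum.elim (fun _ => -w) (fun _ => w) (τ i)
    have hco : ∀ p, Elusive.endOf x (bs (σ p)) = co p.2 • bs (σ p) := by
      rintro ⟨t, i⟩
      rcases hτ : τ i with i' | i' <;> simp [σ, co, hτ, e0, e1, Equiv.prodSumDistrib]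
    let B : GL (Fin b) F := Matrix.GeneralLinearGroup.mkOfDetNeZero (Matrix.diagonal co) (by
      rw [Matrix.det_diagonal]
      refine Finset.prod_ne_zero_iff.2 fun i _ => ?_
      rcases hτ : τ i with i' | i' <;> simp [co, hτ, hw0])
    refine ⟨bs.reindex σ.symm, 1, B, ?_⟩
    show _ = ((1 : Matrix (Fin 2) (Fin 2) F) ⊗ₖ Matrix.diagonal co)
    rw [← Matrix.diagonal_one, Matrix.diagonal_kronecker_diagonal]
    ext p q
    rw [LinearMap.toMatrix_apply, Basis.reindex_apply, Equiv.symm_symm, hco, map_smul, Finsupp.smul_apply,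
      Basis.repr_reindex_apply, Equiv.symm_symm, Basis.repr_self, Matrix.diagonal_apply, Finsupp.single_apply]
    simp only [σ.injective.eq_iff, one_mul, smul_eq_mul, mul_ite, mul_one, mul_zero]
    by_cases hpq : p = q
    · subst hpq; simp
    · simp [hpq, Ne.symm hpq]
  · push Not at hsq
    obtain ⟨k, bs, e0, e1⟩ := Elusive.exists_swap_basis hsq hf
    obtain rfl : k = b := by
      have := finrank_eq_card_basis bs
      simp [Module.finrank_fin_fun] at this
      omega
    let A : GL (Fin 2) F := Matrix.GeneralLinearGroup.mkOfDetNeZero !![0, z; 1, 0]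
      (by simp [Matrix.det_fin_two, hz0])
    refine ⟨bs, A, 1, ?_⟩
    rw [Elusive.toMatrix_pairs bs (fun _ => !![0, z; 1, 0]) fun t i => by fin_cases t <;> simp [e0, e1]]
    ext ⟨t, i⟩ ⟨t', i'⟩
    rw [Matrix.blockDiagonal_apply, Matrix.kroneckerMap_apply, Units.val_one, Matrix.one_apply]
    show _ = !![0, z; 1, 0] t t' * _
    split_ifs <;> simp

end Cfsg.Agent.TensorDerange
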